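import Groth.Agent.ContraResLib.Hom
import Groth.Agent.PullbackMod.Hom
import Mathlib.AlgebraicGeometry.Modules.Sheaf

/-!
# Direct images keep sequences exact on sections
-/

set_option autoImplicit false
universe u

open CategoryTheory Limits AlgebraicGeometry

namespace Groth.Agent.ContraResLib

theorem keepsExact_push {X Y : Scheme.{u}} (f : X ⟶ Y) : KeepsExact (Scheme.Modules.pushforward f) := fun T _ h => by
  refine (PullbackMod.epi_iff_stalk _).2 fun y z => ?_
  obtain ⟨V, hV, s, rfl⟩ := TopCat.Presheaf.exists_germ_eq ((Scheme.Modules.pushforward f).obj T.X₃).presheaf z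
  obtain ⟨t, ht⟩ := h (f ⁻¹ᵁ V) s
  refine ⟨((Scheme.Modules.pushforward f).obj T.X₂).presheaf.germ V y hV t, ?_⟩
  exact (PullbackMod.stalkLin_germ ((Scheme.Modules.pushforward f).map T.g) y hV t).trans (congrArg _ ht)

instance preservesFiniteLimits_push {X Y : Scheme.{u}} (f : X ⟶ Y) :
    PreservesFiniteLimits (Scheme.Modules.pushforward f) := by
  haveI : (Scheme.Modules.pushforward f).IsRightAdjoint :=
    (Scheme.Modules.pullbackPushforwardAdjunction f).isRightAdjoint
  infer_instance

end Groth.Agent.ContraResLib
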